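import Groth.Agent.H12AlgSp.ShriekSpace
import Groth.Agent.H12AlgSp.Points

/-!
# Points of a space regarded over another base
-/

set_option autoImplicit false
set_option linter.style.haveILetI false
set_option backward.isDefEq.respectTransparency false
universe u

open CategoryTheory CategoryTheory.Limits AlgebraicGeometry Opposite Topology
open AlgSp Groth.Agent.H12AlgSp Groth.Agent.H12AlgSp.Shriek

namespace Groth.Agent.H12AlgSp.Strata

variable {S S' : Scheme.{u}} {g : S ⟶ S'} {F G : Sp S}

variable (g) in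
/-- A morphism from a scheme, regarded over the other base. -/
noncomputable def shrHom {T : Over S} (t : (yon S).obj T ⟶ F) : (yon S').obj ((Over.map g).obj T) ⟶ (shr g).obj F :=
  (yonIso g T).inv ≫ (shr g).map t

theorem shrHom_comp {T₂ T : Over S} (a : T₂ ⟶ T) (t : (yon S).obj T ⟶ F) :
    shrHom g ((yon S).map a ≫ t) = (yon S').map ((Over.map g).map a) ≫ shrHom g t := by
  simp only [shrHom, Functor.map_comp, ← Category.assoc]
  congr 1
  rw [Iso.eq_comp_inv, Category.assoc, yonIso_naturality, Iso.inv_hom_id_assoc]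

theorem shrHom_map {T : Over S} (t : (yon S).obj T ⟶ F) (f : F ⟶ G) :
    shrHom g (t ≫ f) = shrHom g t ≫ (shr g).map f := by
  simp [shrHom]

variable (g) in
/-- The points of a space give points of the space over the other base. -/
noncomputable def shrPt : Points F → Points ((shr g).obj F) :=
  Quotient.lift (fun p : FieldPt F => Points.ofPt (shrHom g p.toHom) (IsLocalRing.closedPoint p.K)) (by
    intro p q h
    obtain ⟨Ω, _, w, a, b, hab⟩ := rel_iff_toHom.1 h
    have h' := congrArg (shrHom g) hab
    rw [shrHom_comp, shrHom_comp] at h'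
    change Points.ofPt _ _ = Points.ofPt _ _
    rw [show IsLocalRing.closedPoint p.K = ((Over.map g).map a).left (IsLocalRing.closedPoint Ω) from Subsingleton.elim _ _,
      show IsLocalRing.closedPoint q.K = ((Over.map g).map b).left (IsLocalRing.closedPoint Ω) from Subsingleton.elim _ _,
      ← ofPt_map, ← ofPt_map, h'])

theorem shrPt_ofPt {T : Over S} (t : (yon S).obj T ⟶ F) (x : T.left) :
    shrPt g (Points.ofPt t x) = Points.ofPt (shrHom g t) x := by
  change Points.ofPt (shrHom g (FieldPt.ofPt t x).toHom) _ = _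
  rw [FieldPt.toHom_ofPt, shrHom_comp, ofPt_map]
  exact congrArg (Points.ofPt _) (Scheme.fromSpecResidueField_apply x _)

theorem shrPt_map (f : F ⟶ G) (x : Points F) : shrPt g (Points.map f x) = Points.map ((shr g).map f) (shrPt g x) := by
  induction x using Points.ind with | h p =>
  rw [← Points.ofPt_toHom p (IsLocalRing.closedPoint p.K), Points.map_ofPt, shrPt_ofPt, shrPt_ofPt, shrHom_map,
    Points.map_ofPt]

theorem surjective_shrPt : Function.Surjective (shrPt g : Points F → Points ((shr g).obj F)) := by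
  intro y
  induction y using Points.ind with | h q =>
  obtain ⟨T, e, t, ht⟩ := exists_presentation (g := g) q.toHom
  refine ⟨Points.ofPt t (e.hom.left (IsLocalRing.closedPoint q.K)), ?_⟩
  rw [shrPt_ofPt, ← Points.ofPt_toHom q (IsLocalRing.closedPoint q.K), ht]
  exact (ofPt_map e.hom _ _).symm

theorem injective_shrPt : Function.Injective (shrPt g : Points F → Points ((shr g).obj F)) := by
  intro x y h
  induction x using Points.ind with | h p =>
  induction y using Points.ind with | h q =>
  obtain ⟨z, hz₁, hz₂⟩ : ∃ (Ω : Type u) (_ : Field Ω), ∃ (w : Spec (CommRingCat.of Ω) ⟶ S')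
      (a : Over.mk w ⟶ (Over.map g).obj p.pt) (b : Over.mk w ⟶ (Over.map g).obj q.pt),
      (yon S').map a ≫ shrHom g p.toHom = (yon S').map b ≫ shrHom g q.toHom := by
    obtain ⟨Ω, _, w, a, b, hab⟩ := rel_iff_toHom.1 (Points.mk_eq_mk_iff.1 h)
    rw [FieldPt.toHom_ofPt, FieldPt.toHom_ofPt, ← Functor.map_comp_assoc, ← Functor.map_comp_assoc] at hab
    exact ⟨Ω, inferInstance, w, _, _, hab⟩
  obtain ⟨w, a, b, hab⟩ := hz₂
  have hbase : a ≫ canS g p.pt = b ≫ canS g q.pt := (yon S').map_injective (by
    have h' := congrArg (· ≫ toBase g F) hab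
    simp only [shrHom, Category.assoc, toBase_naturality] at h'
    rwa [← yonIso_toBase p.pt, ← yonIso_toBase q.pt, Iso.inv_hom_id_assoc, Iso.inv_hom_id_assoc,
      ← Functor.map_comp, ← Functor.map_comp] at h')
  let w₀ : Spec (CommRingCat.of z) ⟶ S := (a ≫ canS g p.pt).left
  let a₀ : Over.mk w₀ ⟶ p.pt := Over.homMk a.left rfl
  let b₀ : Over.mk w₀ ⟶ q.pt := Over.homMk b.left (congrArg CommaMorphism.left hbase).symm
  have hw : w₀ ≫ g = w := Over.w (a ≫ canS g p.pt)
  let i : (Over.map g).obj (Over.mk w₀) ⟶ Over.mk w := Over.homMk (𝟙 _) (by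
    change 𝟙 _ ≫ w = w₀ ≫ g
    rw [Category.id_comp, hw])
  have ha : (Over.map g).map a₀ = i ≫ a := Over.OverMorphism.ext (Category.id_comp _).symm
  have hb : (Over.map g).map b₀ = i ≫ b := Over.OverMorphism.ext (Category.id_comp _).symm
  refine Points.sound (rel_iff_toHom.2 ⟨z, hz₁, w₀, a₀, b₀, (shr g).map_injective ?_⟩)
  have e : shrHom g ((yon S).map a₀ ≫ p.toHom) = shrHom g ((yon S).map b₀ ≫ q.toHom) := by
    rw [shrHom_comp, shrHom_comp, ha, hb, Functor.map_comp, Functor.map_comp, Category.assoc, hab, Category.assoc]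
  exact (cancel_epi (yonIso g (Over.mk w₀)).inv).1 e

theorem range_map_shr (f : F ⟶ G) :
    Set.range (Points.map ((shr g).map f)) = shrPt g '' Set.range (Points.map f) := by
  ext y
  constructor
  · rintro ⟨x, rfl⟩
    obtain ⟨x, rfl⟩ := surjective_shrPt (g := g) x
    exact ⟨_, ⟨x, rfl⟩, shrPt_map f x⟩
  · rintro ⟨_, ⟨x, rfl⟩, rfl⟩
    exact ⟨shrPt g x, (shrPt_map f x).symm⟩

end Groth.Agent.H12AlgSp.Strata
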