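import Groth.Agent.H12AlgSp.Strata.Noetherian
import Groth.Agent.H12AlgSp.Strata.ShrPoints
import Groth.Agent.H12AlgSp.ShriekEquiv

/-!
# Strata of a qcqs space covered by schemes
-/

set_option autoImplicit false
set_option linter.style.haveILetI false
set_option maxHeartbeats 1600000
set_option backward.isDefEq.respectTransparency false
set_option backward.isDefEq.respectTransparency.types false
universe u

open CategoryTheory CategoryTheory.Limits AlgebraicGeometry Opposite TopologicalSpace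
open AlgSp Groth.Agent.H13AlgSp Groth.Agent.H12AlgSp.Shriek

namespace Groth.Agent.H12AlgSp.Strata

variable {S : Scheme.{u}}

/-- Covers pull back along affine morphisms. -/
theorem good_of_isPullback {Z Z₀ : Sp S} {π : Z ⟶ Z₀} (hπ : IsAffineMor π) {T : Set (Points Z₀)} (h : Good Z₀ T) :
    Good Z (Points.map π ⁻¹' T) := by
  obtain ⟨Y₀, g₀, hf, hs, hfp, hP⟩ := h
  obtain ⟨Y, y, g, sq⟩ := (isAffineMor_iff.1 hπ).1 g₀
  refine ⟨Y, g, repWith_of_isPullback sq.flip hf, Approx.surjective_map_of_isPullback sq.flip hs,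
    repWith_of_isPullback sq.flip hfp, fun W j hj P fst snd sqP => ?_⟩
  refine hP W (j ≫ π) ?_ P (fst ≫ (yon S).map y) snd (sqP.paste_horiz sq.flip)
  rintro _ ⟨w, rfl⟩ hw
  rw [Points.map_comp] at hw
  exact hj ⟨w, rfl⟩ hw

/-- Stratifications pull back along affine morphisms. -/
theorem strata_of_affine {X X₀ : Sp S} (hX : IsAlgSpace X) (hX₀ : IsAlgSpace X₀) {π : X ⟶ X₀} (hπ : IsAffineMor π)
    (h : Strata X₀ Set.univ) : Strata X Set.univ := by
  obtain ⟨t, Z, z, hprop, hmono, h0, hlast, hG⟩ := h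
  have hrange : ∀ k, Set.range (Points.map (pullback.snd (z k) π)) = Points.map π ⁻¹' Set.range (Points.map (z k)) :=
    fun k => range_snd_of_isPullback (IsPullback.of_hasPullback _ _)
  refine ⟨t, fun k => pullback (z k) π, fun k => pullback.snd (z k) π, fun k => ?_, fun k l hkl => ?_, ?_, ?_, fun k => ?_⟩
  · have sq := IsPullback.of_hasPullback (z k) π
    have hA : IsAlgSpace (pullback (z k) π) := isAlgSpace_pullback hX₀.diag (hprop k).1 hX _ _
    exact ⟨hA, repWith_of_isPullback sq (hprop k).2.1,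
      locP_of_isPullback etLocal_lfp sq (hprop k).1 hX₀ hX (hprop k).2.2⟩
  · rw [hrange, hrange]
    exact Set.preimage_mono (hmono k l hkl)
  · rw [hrange, h0, Set.preimage_univ]
  · exact ⟨fun x => hlast.elim (Points.map (pullback.fst _ _) x)⟩
  · have hπk : IsAffineMor (pullback.fst (z k.castSucc) π) :=
      isAffineMor_iff.2 (repWith_of_isPullback (IsPullback.of_hasPullback _ _).flip (isAffineMor_iff.1 hπ))
    convert good_of_isPullback hπk (hG k) using 1
    rw [hrange, ← Set.preimage_comp, ← Set.preimage_comp]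
    congr 1
    funext x
    simp only [Function.comp_apply, ← Points.map_comp, pullback.condition]

variable {S₀ : Scheme.{u}} {g : S ⟶ S₀}

/-- The covers do not depend on the base. -/
theorem good_of_shr {Z : Sp S} {Z' : Sp S₀} (q : (shr g).obj Z ≅ Z') {T : Set (Points Z)} {T' : Set (Points Z')}
    (hT : ∀ x, Points.map q.hom (shrPt g x) ∈ T' → x ∈ T) (h : Good Z' T') : Good Z T := by
  obtain ⟨Y', g', hf, hs, hfp, hP⟩ := h
  obtain ⟨Y, e, t, ht⟩ := exists_presentation (g := g) (g' ≫ q.inv)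
  let eY : (shr g).obj ((yon S).obj Y) ≅ (yon S₀).obj Y' := yonIso g Y ≪≫ (yon S₀).mapIso e.symm
  have hg' : eY.hom ≫ g' = (shr g).map t ≫ q.hom := by
    rw [← Iso.eq_inv_comp, ← cancel_mono q.inv, ht]
    simp [eY]
  have hrep : ∀ {Q : MorphismProperty Scheme.{u}} [Q.IsStableUnderBaseChange], RepWith Q g' → RepWith Q t := by
    intro Q _ hQ
    refine (repWith_shr_iff g Q t).1 ?_
    rw [show (shr g).map t = eY.hom ≫ g' ≫ q.inv by rw [reassoc_of% hg', Iso.hom_inv_id, Category.comp_id]]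
    exact MorphismProperty.RespectsIso.precomp (RepWith Q) _ _ (MorphismProperty.RespectsIso.postcomp (RepWith Q) _ _ hQ)
  refine ⟨Y, t, hrep hf, fun x => ?_, hrep hfp, fun W j hj P fst snd sq => ?_⟩
  · obtain ⟨y, hy⟩ := hs (Points.map q.hom (shrPt g x))
    obtain ⟨y', hy'⟩ := surjective_shrPt (g := g) (Points.map eY.inv y)
    refine ⟨y', injective_shrPt (g := g) ?_⟩
    rw [shrPt_map, hy', ← Points.map_comp,
      show eY.inv ≫ (shr g).map t = g' ≫ q.inv by rw [Iso.inv_comp_eq, reassoc_of% hg', Iso.hom_inv_id, Category.comp_id],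
      Points.map_comp, hy, ← Points.map_comp, Iso.hom_inv_id, Points.map_id]
  · have sq' : IsPullback ((shr g).map fst ≫ eY.hom) ((shr g).map snd) g' ((shr g).map j ≫ q.hom) :=
      (isPullback_shr_iff.2 sq).of_iso (Iso.refl _) eY (Iso.refl _) q (by simp) (by simp) hg'.symm (by simp)
    obtain ⟨h₁, h₂⟩ := hP _ _ (by
      rintro _ ⟨w, rfl⟩ hw
      obtain ⟨w, rfl⟩ := surjective_shrPt (g := g) w
      rw [Points.map_comp, ← shrPt_map] at hw
      exact hj ⟨w, rfl⟩ (hT _ hw)) _ _ _ sq'
    exact ⟨(repWith_shr_iff g @IsFinite snd).1 h₁, (repWith_shr_iff g @Etale snd).1 h₂⟩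

/-- Stratifications do not depend on the base. -/
theorem strata_of_shr {X : Sp S} (hX : IsAlgSpace X) (h : Strata ((shr g).obj X) Set.univ) : Strata X Set.univ := by
  obtain ⟨t, Z', z', hprop, hmono, h0, hlast, hG⟩ := h
  have hfib : ∀ k, ∃ (F : Sp S) (q : (shr g).obj F ≅ Z' k) (r : F ⟶ X), (shr g).map r = q.hom ≫ z' k := fun k => by
    obtain ⟨hiso, hb⟩ := fib_spec (g := g) (z' k ≫ toBase g X)
    have hq : (@asIso _ _ _ _ _ hiso).hom ≫ z' k ≫ toBase g X = toBase g _ := hb
    obtain ⟨r, hr⟩ := exists_map ((@asIso _ _ _ _ _ hiso).hom ≫ z' k) (by rw [Category.assoc]; exact hq)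
    exact ⟨_, _, r, hr⟩
  choose Z q z hz using hfib
  have hrange : ∀ k, Set.range (Points.map (z' k)) = shrPt g '' Set.range (Points.map (z k)) := fun k => by
    rw [← range_map_shr, hz]
    refine Set.Subset.antisymm ?_ ?_
    · rintro _ ⟨x, rfl⟩
      exact ⟨Points.map (q k).inv x, by rw [← Points.map_comp, Iso.inv_hom_id_assoc]⟩
    · rintro _ ⟨x, rfl⟩
      exact ⟨_, (Points.map_comp _ _ _).symm⟩
  have halg : ∀ k, IsAlgSpace (Z k) := fun k => isAlgSpace_of_shr (g := g) ((hprop k).1.of_iso (q k).symm)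
  refine ⟨t, Z, z, fun k => ?_, fun k l hkl => ?_, ?_, ⟨fun x => hlast.elim (Points.map (q _).hom (shrPt g x))⟩,
    fun k => good_of_shr (q k.castSucc) (fun x hx => ?_) (hG k)⟩
  · have hc : RepWith @IsClosedImmersion (z k) := (repWith_shr_iff g @IsClosedImmersion (z k)).1 (by
      rw [hz]; exact MorphismProperty.RespectsIso.precomp (RepWith @IsClosedImmersion) _ _ (hprop k).2.1)
    have hl : RepWith @LocallyOfFinitePresentation ((shr g).map (z k)) := by
      rw [hz]
      exact MorphismProperty.RespectsIso.precomp (RepWith @LocallyOfFinitePresentation) _ _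
        (repWith_of_locP etLocal_lfp (isAlgSpace_shr hX) (hprop k).2.1.1 (hprop k).2.2)
    exact ⟨halg k, hc, locP_of_repWith etLocal_lfp ((repWith_shr_iff g @LocallyOfFinitePresentation (z k)).1 hl)⟩
  · have := hmono k l hkl
    rw [hrange, hrange] at this
    exact (Set.image_subset_image_iff injective_shrPt).1 this
  · refine Set.eq_univ_of_forall fun x => ?_
    obtain ⟨y, hy, e⟩ := ((hrange 0).symm.trans h0).ge (Set.mem_univ (shrPt g x))
    exact injective_shrPt e ▸ hy
  · rw [Set.mem_preimage, ← Points.map_comp, ← hz, ← shrPt_map, hrange] at hx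
    obtain ⟨y, hy, e⟩ := hx
    exact Set.mem_preimage.2 (injective_shrPt e ▸ hy)

/-- Every qcqs space is stratified. -/
theorem exists_strata_qcqs {S : Scheme.{u}} [QuasiSeparatedSpace S] {X : Sp S} (hX : IsAlgSpace X)
    (hXc : IsQuasiCompactSp X) (hXs : IsQuasiSeparatedSp X) : Strata X Set.univ := by
  let S₀ : Scheme.{u} := Spec (CommRingCat.of (ULift.{u} ℤ))
  let g : S ⟶ S₀ := specULiftZIsTerminal.from S
  obtain ⟨τ⟩ := Approx.exists_sys (S := S₀) specULiftZIsTerminal (isAlgSpace_shr (g := g) hX)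
    (Approx.isQuasiCompactSp_shr g hXc) (Approx.isQuasiSeparatedSp_shr g hX hXc hXs)
  obtain ⟨i⟩ : Nonempty τ.Iᵒᵖ := inferInstance
  exact strata_of_shr hX (strata_of_affine (isAlgSpace_shr hX) (τ.alg i)
    ((isAlgSpace_limit_and_affine τ.affine τ.isLimit τ.alg).2 i)
    (exists_strata specULiftZIsTerminal (τ.alg i) (τ.qc i) (τ.qs i) (locP_mono SchemeCover.lfp_le_lft (τ.lfp i))))

end Groth.Agent.H12AlgSp.Strata
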