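import Groth.Agent.H12AlgSp.SchemeCover.DenseEtale

/-!
# Strata of a Noetherian space covered by schemes
-/

set_option autoImplicit false
set_option linter.style.haveILetI false
set_option maxHeartbeats 1600000
set_option backward.isDefEq.respectTransparency false
set_option backward.isDefEq.respectTransparency.types false
universe u

open CategoryTheory CategoryTheory.Limits AlgebraicGeometry Opposite TopologicalSpace
open AlgSp Groth.Agent.H13AlgSp

namespace Groth.Agent.H12AlgSp.Strata

variable {S : Scheme.{u}}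

/-- `Z` has a finite surjective cover by a scheme which is finite etale away from `T`. -/
def Good (Z : Sp S) (T : Set (Points Z)) : Prop :=
  ∃ (Y : Over S) (g : (yon S).obj Y ⟶ Z), RepWith @IsFinite g ∧ IsSurjectiveMor g ∧
    RepWith @LocallyOfFinitePresentation g ∧
    ∀ (W : Sp S) (j : W ⟶ Z), Set.range (Points.map j) ⊆ Tᶜ →
      ∀ (P : Sp S) (fst : P ⟶ (yon S).obj Y) (snd : P ⟶ W), IsPullback fst snd g j →
        RepWith @IsFinite snd ∧ RepWith @Etale snd

/-- A stratification by closed subspaces of the closed set `C`. -/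
def Strata (X : Sp S) (C : Set (Points X)) : Prop :=
  ∃ (t : ℕ) (Z : Fin (t + 1) → Sp S) (z : ∀ k, Z k ⟶ X),
    (∀ k, IsAlgSpace (Z k) ∧ RepWith @IsClosedImmersion (z k) ∧ LocP @LocallyOfFinitePresentation (z k)) ∧
    (∀ k l : Fin (t + 1), k ≤ l → Set.range (Points.map (z l)) ⊆ Set.range (Points.map (z k))) ∧
    Set.range (Points.map (z 0)) = C ∧ IsEmpty (Points (Z (Fin.last t))) ∧
    ∀ k : Fin t, Good (Z k.castSucc) (Points.map (z k.castSucc) ⁻¹' Set.range (Points.map (z k.succ)))

/-- The top stratum: a cover finite etale away from a proper closed subset. -/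
theorem exists_good [QuasiSeparatedSpace S] {Z : Sp S} (hZ : IsAlgSpace Z) (hZc : IsQuasiCompactSp Z)
    (hZs : IsQuasiSeparatedSp Z) (hirr : (irreducibleComponents (Points Z)).Finite) :
    ∃ O : Set (Points Z), IsOpen O ∧ Dense O ∧ Good Z Oᶜ := by
  obtain ⟨U, p, hpe, hps⟩ := hZ.atlas
  obtain ⟨Y, g, V, j, hf, hs, hfp, hj, hVc, hd, hP, -⟩ :=
    SchemeCover.exists_cover_etale hZ hZc hZs hirr p hpe hps
  have hg : RepWith @IsFinite g := isFiniteMor_iff.1 hf
  refine ⟨Set.range (Points.map j),
    (isOpenMap_map_of_repWith (fun _ _ k (_ : IsOpenImmersion k) => inferInstance) hj).isOpen_range, hd,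
    Y, g, hg, hs, repWith_of_locP etLocal_lfp hZ hg.1 hfp.1, fun W k hk P fst snd sq => ?_⟩
  rw [compl_compl] at hk
  obtain ⟨w, hw⟩ := exists_factor_open hj k hk
  have sqV := IsPullback.of_hasPullback g j
  obtain ⟨hVf, hVe⟩ := hP _ _ _ sqV
  have hVf' : RepWith @IsFinite (pullback.snd g j) := isFiniteMor_iff.1 hVf
  have hVe' : RepWith @Etale (pullback.snd g j) :=
    repWith_of_locP etLocal_etale (IsAlgSpace.yon_obj V) hVf'.1 (locP_etale_of_isEtaleMor hVe)
  have sqW : IsPullback (pullback.lift fst (snd ≫ w) (by rw [Category.assoc, hw, sq.w]) : P ⟶ pullback g j) snd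
      (pullback.snd g j) w :=
    IsPullback.of_right (by rw [pullback.lift_fst, hw]; exact sq) (pullback.lift_snd _ _ _) sqV
  exact ⟨repWith_of_isPullback sqW hVf', repWith_of_isPullback sqW hVe'⟩

/-- Noetherian spaces over a terminal base are stratified. -/
theorem exists_strata [QuasiSeparatedSpace S] (hS : IsTerminal S) {X : Sp S} (hX : IsAlgSpace X)
    (hXc : IsQuasiCompactSp X) (hXs : IsQuasiSeparatedSp X)
    (hl : LocP @LocallyOfFiniteType (Approx.strMap X)) : Strata X Set.univ := by
  haveI := (Approx.isNoetherian_of_isTerminal hS).2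
  haveI : IsLocallyNoetherian (Over.mk (𝟙 S)).left := inferInstanceAs (IsLocallyNoetherian S)
  have hN : IsLocNoethSp X := H13AlgSp.isLocNoethSp_of_lft hX hl
  have := AffImm.noetherianSpace_points hXc hN
  suffices h : ∀ C : Closeds (Points X), Strata X C from h ⊤
  intro C
  refine WellFoundedLT.induction (motive := fun C : Closeds (Points X) => Strata X C) C fun C ih => ?_
  obtain ⟨Z, i, hZ, hi, hrange, -⟩ := H13AlgSp.exists_isRedInduced hX C.isClosed
  have hia : IsAffineMor i := isAffineMor_iff.2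
    (repWith_le (fun _ _ k (_ : IsClosedImmersion k) => inferInstanceAs (IsAffineHom k)) hi)
  obtain ⟨hZc, hZs⟩ := Approx.qc_qs_of_isAffineMor hZ hX hia hXc hXs
  have hilft : LocP @LocallyOfFiniteType i := locP_of_repWith etLocal_lft
    (repWith_le (fun _ _ k (_ : IsClosedImmersion k) => inferInstanceAs (LocallyOfFiniteType k)) hi)
  have hilfp : LocP @LocallyOfFinitePresentation i := Approx.locP_lfp_of_lft hX hN hilft
  by_cases hC : (C : Set (Points X)) = ∅
  · haveI : IsEmpty (Points Z) := ⟨fun x => Set.notMem_empty _ (hC ▸ hrange.le ⟨x, rfl⟩)⟩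
    exact ⟨0, fun _ => Z, fun _ => i, fun _ => ⟨hZ, hi, hilfp⟩, fun _ _ _ => subset_rfl, hrange, inferInstance,
      fun k => k.elim0⟩
  have hZl : LocP @LocallyOfFiniteType (Approx.strMap Z) := by
    rw [Approx.strMap_ext (Approx.strMap Z) (i ≫ Approx.strMap X)]
    exact locP_comp etLocal_lft hZ hX (IsAlgSpace.yon_obj _) hilft hl
  have := AffImm.noetherianSpace_points hZc (H13AlgSp.isLocNoethSp_of_lft hZ hZl)
  obtain ⟨O, hOo, hOd, hgood⟩ := exists_good hZ hZc hZs NoetherianSpace.finite_irreducibleComponents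
  have hcl : IsClosedMap (Points.map i) :=
    isClosedMap_map_of_repWith (fun _ _ k (_ : IsClosedImmersion k) => inferInstance) hi
  let C' : Closeds (Points X) := ⟨Points.map i '' Oᶜ, hcl _ hOo.isClosed_compl⟩
  haveI : Mono i := mono_of_repWith (fun _ _ k (_ : IsClosedImmersion k) => inferInstanceAs (Mono k)) hi
  have hlt : C' < C := by
    refine lt_of_le_of_ne (fun x hx => hrange.le (Set.image_subset_range _ _ hx)) fun e => ?_
    obtain ⟨x, hx⟩ := Set.nonempty_iff_ne_empty.2 hC
    obtain ⟨y, -⟩ := hrange.ge hx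
    obtain ⟨o, ho⟩ : O.Nonempty := by
      haveI : Nonempty (Points Z) := ⟨y⟩
      exact hOd.nonempty
    obtain ⟨o', ho', he⟩ := (congrArg (fun D : Closeds (Points X) => (D : Set (Points X))) e).ge
      (hrange.le ⟨o, rfl⟩)
    exact ho' ((injective_map_of_mono i he).symm ▸ ho)
  obtain ⟨t, Zs, zs, hprop, hmono, h0, hlast, hG⟩ := ih C' hlt
  let z' : ∀ k, (Fin.cons Z Zs : Fin (t + 1 + 1) → Sp S) k ⟶ X := Fin.cases i zs
  have hz0 : z' 0 = i := rfl
  have hzs : ∀ k, z' k.succ = zs k := fun k => rfl
  refine ⟨t + 1, Fin.cons Z Zs, z', Fin.cases ⟨hZ, hi, hilfp⟩ hprop, fun k l hkl => ?_, hrange, ?_, Fin.cases ?_ ?_⟩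
  · induction k using Fin.cases with
    | zero =>
      induction l using Fin.cases with
      | zero => exact subset_rfl
      | succ l => exact ((hmono 0 l (Fin.zero_le _)).trans h0.le).trans ((SetLike.coe_subset_coe.2 hlt.le).trans hrange.ge)
    | succ k =>
      induction l using Fin.cases with
      | zero => exact absurd hkl (by simp)
      | succ l => exact hmono k l (Fin.succ_le_succ_iff.1 hkl)
  · rw [← Fin.succ_last]
    exact hlast
  · change Good Z (Points.map i ⁻¹' Set.range (Points.map (zs 0)))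
    rw [h0]
    change Good Z (Points.map i ⁻¹' (Points.map i '' Oᶜ))
    rwa [Set.preimage_image_eq _ (injective_map_of_mono i)]
  · intro k
    exact hG k

end Groth.Agent.H12AlgSp.Strata
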